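import Cfsg.Agent.Lib.Trans3.Structure
import Cfsg.Agent.Lib.Trans3.Width
import Cfsg.Agent.Lib.Comp.SolvableClosure

/-!
Classes of 3-transpositions in groups without solvable normal subgroup and with perfect derived
group: primitivity, the double transitivity on a maximal commuting set, and the class of the
members commuting with a given one.
-/

set_option autoImplicit false

namespace CfsgLib.Fischer

open Subgroup CfsgLib.Trans3
open scoped commutatorElement

variable {G : Type*} [Group G] [Finite G] {D : Set G}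

/-- No solvable normal subgroup and perfect derived group give a primitive class of width two. -/
theorem setting (hsol : ∀ N : Subgroup G, N.Normal → Group.IsSolvable ↥N → N = ⊥)
    (hperf : ⁅commutator G, commutator G⁆ = commutator G)
    (hD : Cfsg.IsThreeTranspositionClass D) :
    Cfsg.IsPrimitiveUnderConj D ∧ (∃ a ∈ D, ∃ b ∈ D, a ≠ b ∧ Commute a b) ∧
      Cfsg.pCore 2 G = ⊥ := by
  have hG := class_isGroup hD
  have hp : ∀ p : ℕ, p.Prime → Cfsg.pCore p G = ⊥ := fun p hp =>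
    hsol _ CfsgLib.Amalgam.normal_pCore (solvable_of_isPGroup hp CfsgLib.Amalgam.isPGroup_pCore)
  have hD2 : ∃ a ∈ D, ∃ b ∈ D, a ≠ b := by
    by_contra h
    obtain ⟨d, hd, -⟩ := hD.2.1
    have hs : D ⊆ {d} := fun x hx => not_not.1 fun hne => h ⟨x, hx, d, hd, hne⟩
    have htop : zpowers d = ⊤ := top_le_iff.1 (hD.2.2 ▸ (closure_le _).2 fun x hx => by
      rw [hs hx]; exact mem_zpowers d)
    haveI : Fact (Nat.Prime 2) := ⟨Nat.prime_two⟩
    have h2 : IsPGroup 2 (zpowers d) := IsPGroup.of_card (n := 1)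
      (by rw [Nat.card_zpowers, hD.1.1 d hd, pow_one])
    have hbot := hsol (zpowers d) (htop ▸ inferInstance) (solvable_of_isPGroup Nat.prime_two h2)
    exact invol_ne_one (hD.1.1 d hd) (mem_bot.1 (hbot ▸ mem_zpowers d))
  obtain ⟨L, hn, hq, -⟩ := exists_quasisimple hD hD2 ((hp 2 Nat.prime_two).le.trans bot_le)
    ((hp 3 Nat.prime_three).le.trans bot_le)
  haveI := hn
  haveI := hq.2
  have hLL : ⁅L, L⁆ = L := Subgroup.isPerfect_iff.1 hq.1
  have hZ : center L = ⊥ := by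
    have h : (center L).map L.subtype = ⊥ := by
      refine hsol _ inferInstance ?_
      haveI : Group.IsSolvable (center L) :=
        Group.isSolvable_of_comm fun a b => Subtype.ext (mem_center_iff.1 b.2 a)
      exact solvable_of_surjective (L.subtype.subgroupMap_surjective (center L))
    exact (map_eq_bot_iff_of_injective _ L.subtype_injective).1 h
  have hsimple : IsSimpleGroup L :=
    ((QuotientGroup.quotientMulEquivOfEq hZ).trans QuotientGroup.quotientBot).symm.isSimpleGroup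
  have hle : commutator G ≤ L := by
    haveI : Fact (Nat.Prime 3) := ⟨Nat.prime_three⟩
    let π := QuotientGroup.mk' L
    have hcube : ∀ a ∈ D, ∀ b ∈ D, (π a * π b) ^ 3 = 1 := by
      intro a ha b hb
      rw [← map_mul, ← map_pow]
      by_cases hc : Commute a b
      · have h1 : a⁻¹ * b ∈ L := congr_mod_component hD L hq ha hb (by
          rw [hc.eq]; simp [mul_assoc])
        rw [inv_eq hD.1 ha] at h1
        exact (QuotientGroup.eq_one_iff _).2 (pow_mem h1 3)
      · rw [pow_three hD.1 ha hb hc, map_one]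
    have hP := isPGroup_products (D := π '' D)
      (by rintro _ ⟨a, ha, rfl⟩; rw [← map_mul, sq_one hD.1 ha, map_one])
      (by rintro _ ⟨a, ha, rfl⟩ _ ⟨b, hb, rfl⟩; exact hcube a ha b hb)
      (by
        rintro _ ⟨a, ha, rfl⟩ _ ⟨b, hb, rfl⟩
        exact ⟨a * b * a, self_conj_mem hG ha hb, by rw [map_mul, map_mul]⟩)
    obtain ⟨K, hK⟩ : ∃ K, K = closure {x : G ⧸ L | ∃ a ∈ π '' D, ∃ b ∈ π '' D, x = a * b} :=
      ⟨_, rfl⟩
    rw [← hK] at hP
    haveI : K.Normal := hK ▸ closure_normal_of_conj_mem (by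
      rintro q _ ⟨_, ⟨a, ha, rfl⟩, _, ⟨b, hb, rfl⟩, rfl⟩
      obtain ⟨g, rfl⟩ := QuotientGroup.mk'_surjective L q
      exact ⟨π (g * a * g⁻¹), ⟨_, hG.2.1 g a ha, rfl⟩, π (g * b * g⁻¹), ⟨_, hG.2.1 g b hb, rfl⟩,
        by simp [π, mul_assoc]⟩)
    have h1 : (commutator G).map π ≤ K := by
      rw [map_le_iff_le_comap]
      refine (index_le_two_of_congr hD (K.comap π) fun a ha b hb => ?_).2
      rw [mem_comap, inv_eq hD.1 ha, map_mul, hK]
      exact subset_closure ⟨_, ⟨a, ha, rfl⟩, _, ⟨b, hb, rfl⟩, rfl⟩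
    have h2 : ⁅(commutator G).map π, (commutator G).map π⁆ = (commutator G).map π := by
      rw [← map_commutator, hperf]
    have h3 := CfsgLib.Comp.eq_bot_of_perfect_of_isSolvable' h2
      (solvable_of_isPGroup Nat.prime_three (hP.to_le h1))
    intro x hx
    exact (QuotientGroup.eq_one_iff x).1 (mem_bot.1 (h3 ▸ mem_map_of_mem π hx))
  have heq : commutator G = L :=
    le_antisymm hle (hLL.symm.le.trans (commutator_mono le_top le_top))
  haveI : IsSimpleGroup (commutator G) := heq ▸ hsimple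
  have hnab : ∃ x y : commutator G, x * y ≠ y * x := by
    by_contra h
    push Not at h
    have hc : center (commutator G) = ⊤ := top_le_iff.1 fun x _ => mem_center_iff.2 fun y => h y x
    rw [heq, hZ] at hc
    haveI := hsimple
    exact absurd hc bot_ne_top
  obtain ⟨h1, h2⟩ := primitive_of_simple_commutator hD hnab
  exact ⟨h1, h2, hp 2 Nat.prime_two⟩

theorem maximal_eq_inter (hD : Cfsg.IsThreeTranspositionGroup D) {E : Set G} (hE : E ⊆ D)
    (hc : ∀ a ∈ E, ∀ b ∈ E, Commute a b)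
    (hmax : ∀ E' : Set G, E' ⊆ D → (∀ a ∈ E', ∀ b ∈ E', Commute a b) → E'.ncard ≤ E.ncard)
    (T : Subgroup G) (hT : IsPGroup 2 T) (hET : E ⊆ T) : E = {d | d ∈ D ∧ d ∈ T} :=
  Set.eq_of_subset_of_ncard_le (fun d hd => ⟨hE hd, hET hd⟩)
    (hmax _ (fun _ h => h.1) fun _ ha _ hb =>
      commute_of_mem_two_group hD.1 hT ha.1 hb.1 ha.2 hb.2) (Set.toFinite _)

theorem conj_inter (hD : Cfsg.IsThreeTranspositionGroup D) (T : Subgroup G) (g x : G) :
    g * x * g⁻¹ ∈ {d | d ∈ D ∧ d ∈ T.map (MulAut.conj g).toMonoidHom} ↔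
      x ∈ {d | d ∈ D ∧ d ∈ T} := by
  refine ⟨fun h => ⟨?_, ?_⟩, fun h => ⟨conj_mem hD h.1, mem_map_of_mem _ h.2⟩⟩
  · have := conj_mem hD (g := g⁻¹) h.1
    rwa [show g⁻¹ * (g * x * g⁻¹) * g⁻¹⁻¹ = x by group] at this
  · exact (mem_map_iff_mem (MulAut.conj g).injective).1 h.2

/-- The normaliser of a maximal commuting subset contains a Sylow 2-subgroup and is doubly
transitive on it. -/
theorem maximal_commuting (hD : Cfsg.IsThreeTranspositionClass D)
    (hP : Cfsg.IsPrimitiveUnderConj D) (hw : ∃ a ∈ D, ∃ b ∈ D, a ≠ b ∧ Commute a b) {E : Set G}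
    (hE : E ⊆ D) (hc : ∀ a ∈ E, ∀ b ∈ E, Commute a b)
    (hmax : ∀ E' : Set G, E' ⊆ D → (∀ a ∈ E', ∀ b ∈ E', Commute a b) → E'.ncard ≤ E.ncard) :
    (∃ P : Sylow 2 G, (P : Subgroup G) ≤ normalizer E) ∧
      ∀ a ∈ E, ∀ b ∈ E, ∀ c ∈ E, ∀ d ∈ E, a ≠ b → c ≠ d →
        ∃ g ∈ normalizer E, g * a * g⁻¹ = c ∧ g * b * g⁻¹ = d := by
  have hG := class_isGroup hD
  haveI : Fact (Nat.Prime 2) := ⟨Nat.prime_two⟩
  have hgrp : ∀ F : Set G, F ⊆ D → (∀ a ∈ F, ∀ b ∈ F, Commute a b) → IsPGroup 2 (closure F) :=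
    fun F hF hFc => isPGroup_two_closure_of_commute hFc fun a ha => sq_one hD.1 (hF ha)
  refine ⟨?_, fun a ha b hb c hc' d hd hab hcd => ?_⟩
  · obtain ⟨P, hP'⟩ := (hgrp E hE hc).exists_le_sylow
    refine ⟨P, fun g hg => ?_⟩
    have hEP := maximal_eq_inter hG hE hc hmax P P.2 fun x hx => hP' (subset_closure hx)
    show ∀ x, x ∈ E ↔ g * x * g⁻¹ ∈ E
    intro x
    rw [hEP]
    refine ⟨fun h => ⟨conj_mem hG h.1, mul_mem (mul_mem hg h.2) (inv_mem hg)⟩, fun h => ?_⟩
    have h1 := conj_mem hG (g := g⁻¹) h.1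
    have h2 := mul_mem (mul_mem (inv_mem hg) h.2) hg
    rw [show g⁻¹ * (g * x * g⁻¹) * g⁻¹⁻¹ = x by group] at h1
    rw [show g⁻¹ * (g * x * g⁻¹) * g = x by group] at h2
    exact ⟨h1, h2⟩
  · obtain ⟨g₁, hg₁⟩ := class_exists_conj hD (hE ha) (hE hc')
    obtain ⟨g₂, h2c, h2d⟩ := trans_comm hG hP hw (hE hc') (x := g₁ * b * g₁⁻¹) (x' := d)
      (conj_mem hG (hE hb))
      (fun h => hab ((MulAut.conj g₁).injective (hg₁.trans h.symm)))
      (hg₁ ▸ (commute_conj_iff g₁ a b).2 (hc a ha b hb))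
      (hE hd) (Ne.symm hcd) (hc c hc' d hd)
    obtain ⟨g, hg⟩ : ∃ g, g = g₂ * g₁ := ⟨_, rfl⟩
    have hga : g * a * g⁻¹ = c := by
      rw [hg, ← h2c, ← hg₁]; group
    have hgb : g * b * g⁻¹ = d := by
      rw [hg, ← h2d]; group
    obtain ⟨E', hE'⟩ : ∃ E', E' = (fun x => g * x * g⁻¹) '' E := ⟨_, rfl⟩
    have hE'D : E' ⊆ D := by rw [hE']; rintro _ ⟨x, hx, rfl⟩; exact conj_mem hG (hE hx)
    have hE'c : ∀ x ∈ E', ∀ y ∈ E', Commute x y := by
      rw [hE']
      rintro _ ⟨x, hx, rfl⟩ _ ⟨y, hy, rfl⟩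
      exact (commute_conj_iff g x y).2 (hc x hx y hy)
    have hmax' : ∀ F : Set G, F ⊆ D → (∀ a ∈ F, ∀ b ∈ F, Commute a b) → F.ncard ≤ E'.ncard := by
      intro F hF hFc
      rw [hE', Set.ncard_image_of_injective E (f := fun x => g * x * g⁻¹) fun u v h => (MulAut.conj g).injective h]
      exact hmax F hF hFc
    obtain ⟨C, hC⟩ : ∃ C, C = centralizer ({c, d} : Set G) := ⟨_, rfl⟩
    have hle : ∀ F : Set G, (∀ a ∈ F, ∀ b ∈ F, Commute a b) → c ∈ F → d ∈ F → F ⊆ C := by
      intro F hFc hcF hdF x hx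
      rw [SetLike.mem_coe, hC, mem_centralizer_iff]
      rintro y (rfl | rfl)
      · exact hFc _ hcF x hx
      · exact hFc _ hdF x hx
    have hcE' : c ∈ E' := hE' ▸ ⟨a, ha, hga⟩
    have hdE' : d ∈ E' := hE' ▸ ⟨b, hb, hgb⟩
    have hsyl : ∀ F : Set G, F ⊆ D → (∀ a ∈ F, ∀ b ∈ F, Commute a b) → c ∈ F → d ∈ F →
        ∃ S : Sylow 2 C, F ⊆ ((S : Subgroup C).map C.subtype : Subgroup G) := by
      intro F hF hFc hcF hdF
      obtain ⟨S, hS⟩ := ((hgrp F hF hFc).comap_of_injective C.subtype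
        C.subtype_injective).exists_le_sylow
      exact ⟨S, fun x hx => ⟨⟨x, hle F hFc hcF hdF hx⟩, hS (subset_closure hx), rfl⟩⟩
    obtain ⟨S, hS⟩ := hsyl E hE hc hc' hd
    obtain ⟨S', hS'⟩ := hsyl E' hE'D hE'c hcE' hdE'
    obtain ⟨h, hh⟩ := MulAction.exists_smul_eq C S S'
    have e1 := maximal_eq_inter hG hE hc hmax _ (S.2.map _) hS
    have e2 := maximal_eq_inter hG hE'D hE'c hmax' _ (S'.2.map _) hS'
    have e3 : (S' : Subgroup C).map C.subtype =
        ((S : Subgroup C).map C.subtype).map (MulAut.conj (h : G)).toMonoidHom := by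
      rw [← hh, Sylow.coe_subgroup_smul, Subgroup.pointwise_smul_def]
      ext z
      constructor
      · rintro ⟨_, ⟨y, hy, rfl⟩, rfl⟩
        exact ⟨_, ⟨y, hy, rfl⟩, rfl⟩
      · rintro ⟨_, ⟨y, hy, rfl⟩, rfl⟩
        exact ⟨_, ⟨y, hy, rfl⟩, rfl⟩
    refine ⟨(h : G)⁻¹ * g, ?_, ?_, ?_⟩
    · show ∀ x, x ∈ E ↔ (h : G)⁻¹ * g * x * ((h : G)⁻¹ * g)⁻¹ ∈ E
      intro x
      have hk : ((h : G)⁻¹ * g) * x * ((h : G)⁻¹ * g)⁻¹ = (h : G)⁻¹ * (g * x * g⁻¹) * (h : G) := by
        group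
      rw [hk]
      have h1 := conj_inter hG ((S : Subgroup C).map C.subtype) (h : G)
        ((h : G)⁻¹ * (g * x * g⁻¹) * (h : G))
      rw [show (h : G) * ((h : G)⁻¹ * (g * x * g⁻¹) * (h : G)) * (h : G)⁻¹ = g * x * g⁻¹ by group,
        ← e3, ← e1, ← e2] at h1
      rw [← h1, hE']
      exact ⟨fun hx => ⟨x, hx, rfl⟩, fun ⟨y, hy, e⟩ => (MulAut.conj g).injective e ▸ hy⟩
    · have := mem_centralizer_iff.1 (hC.le h.2)
      rw [show (h : G)⁻¹ * g * a * ((h : G)⁻¹ * g)⁻¹ = (h : G)⁻¹ * (g * a * g⁻¹) * h by group, hga,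
        mul_assoc, this c (by simp), inv_mul_cancel_left]
    · have := mem_centralizer_iff.1 (hC.le h.2)
      rw [show (h : G)⁻¹ * g * b * ((h : G)⁻¹ * g)⁻¹ = (h : G)⁻¹ * (g * b * g⁻¹) * h by group, hgb,
        mul_assoc, this d (by simp), inv_mul_cancel_left]

/-- Non-commutation among the members of `D` commuting with `x` and distinct from it. -/
def Link (D : Set G) (x a b : G) : Prop :=
  (a ∈ D ∧ a ≠ x ∧ Commute x a) ∧ (b ∈ D ∧ b ≠ x ∧ Commute x b) ∧ ¬ Commute a b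

/-- The connected component. -/
def Part (D : Set G) (x u : G) : Set G := {v | Relation.ReflTransGen (Link D x) u v}

omit [Finite G] in
theorem Link.symm {x a b : G} (h : Link D x a b) : Link D x b a :=
  ⟨h.2.1, h.1, fun hc => h.2.2 hc.symm⟩

omit [Finite G] in
theorem Part.mem_perp {x u v : G} (hu : u ∈ D ∧ u ≠ x ∧ Commute x u) (h : v ∈ Part D x u) :
    v ∈ D ∧ v ≠ x ∧ Commute x v := by
  cases h with
  | refl => exact hu
  | tail _ h => exact h.2.1

omit [Finite G] in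
theorem Part.commute_out {x u v w : G} (hu : u ∈ D ∧ u ≠ x ∧ Commute x u)
    (h : v ∈ Part D x u) (hw : w ∈ D ∧ w ≠ x ∧ Commute x w) (hn : w ∉ Part D x u) : Commute w v := by
  by_contra hc
  exact hn (h.tail ⟨Part.mem_perp hu h, hw, fun e => hc e.symm⟩)

omit [Finite G] in
theorem Part.conj_subset (hD : Cfsg.IsThreeTranspositionGroup D) (g x u : G) :
    (fun v => g * v * g⁻¹) '' Part D x u ⊆ Part D (g * x * g⁻¹) (g * u * g⁻¹) := by
  rintro _ ⟨v, hv, rfl⟩
  refine hv.lift (fun v => g * v * g⁻¹) fun p q hpq => ?_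
  exact ⟨⟨conj_mem hD hpq.1.1, fun e => hpq.1.2.1 ((MulAut.conj g).injective e),
      (commute_conj_iff g x p).2 hpq.1.2.2⟩,
    ⟨conj_mem hD hpq.2.1.1, fun e => hpq.2.1.2.1 ((MulAut.conj g).injective e),
      (commute_conj_iff g x q).2 hpq.2.1.2.2⟩,
    fun hc => hpq.2.2 ((commute_conj_iff g p q).1 hc)⟩

theorem Part.ncard_le_of_conj (hD : Cfsg.IsThreeTranspositionGroup D) (g x u : G) :
    (Part D x u).ncard ≤ (Part D (g * x * g⁻¹) (g * u * g⁻¹)).ncard := by
  rw [← Set.ncard_image_of_injective (Part D x u) (f := fun v => g * v * g⁻¹)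
    fun p q h => (MulAut.conj g).injective h]
  exact Set.ncard_le_ncard (Part.conj_subset hD g x u) (Set.toFinite _)

theorem link_connected (hD : Cfsg.IsThreeTranspositionClass D)
    (hP : Cfsg.IsPrimitiveUnderConj D) (hw : ∃ a ∈ D, ∃ b ∈ D, a ≠ b ∧ Commute a b)
    (h2 : Cfsg.pCore 2 G = ⊥) {x : G} (hx : x ∈ D) {a b : G}
    (ha : a ∈ D ∧ a ≠ x ∧ Commute x a) (hb : b ∈ D ∧ b ≠ x ∧ Commute x b) :
    b ∈ Part D x a := by
  have hG := class_isGroup hD
  by_contra hn
  have hinA : ∀ e ∈ Part D x b, e ∈ D ∧ e ≠ a ∧ Commute a e := by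
    intro e he
    have h := Part.mem_perp hb he
    have hne : ¬ a ∈ Part D x b := fun h => hn (by
      have hs : ∀ p q, Relation.ReflTransGen (Link D x) p q → Relation.ReflTransGen (Link D x) q p := by
        intro p q hpq
        induction hpq with
        | refl => exact .refl
        | tail _ h ih => exact Relation.ReflTransGen.head h.symm ih
      exact hs b a h)
    exact ⟨h.1, fun e' => hne (e' ▸ he), Part.commute_out hb he ha hne⟩
  have hba : b ∈ D ∧ b ≠ a ∧ Commute a b := hinA b .refl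
  have hsub : Part D x b ⊆ Part D a b := by
    intro e he
    show Relation.ReflTransGen (Link D a) b e
    induction he with
    | refl => exact .refl
    | @tail p q hp hpq ih => exact ih.tail ⟨hinA p hp, hinA q (hp.tail hpq), hpq.2.2⟩
  have hcard : (Part D a b).ncard ≤ (Part D x b).ncard := by
    obtain ⟨g₁, hg₁⟩ := class_exists_conj hD ha.1 hx
    obtain ⟨g₂, hg₂x, hg₂b⟩ := trans_comm hG hP hw hx (x := g₁ * b * g₁⁻¹) (x' := b)
      (conj_mem hG hb.1)
      (fun e => hba.2.1 ((MulAut.conj g₁).injective (e.trans hg₁.symm)))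
      (hg₁ ▸ (commute_conj_iff g₁ a b).2 hba.2.2) hb.1 hb.2.1 hb.2.2
    refine (Part.ncard_le_of_conj hG (g₂ * g₁) a b).trans (le_of_eq ?_)
    rw [show g₂ * g₁ * a * (g₂ * g₁)⁻¹ = g₂ * (g₁ * a * g₁⁻¹) * g₂⁻¹ by group, hg₁, hg₂x,
      show g₂ * g₁ * b * (g₂ * g₁)⁻¹ = g₂ * (g₁ * b * g₁⁻¹) * g₂⁻¹ by group, hg₂b]
  have heq := Set.eq_of_subset_of_ncard_le hsub hcard (Set.toFinite _)
  obtain ⟨y, hy, hay, hxy⟩ : ∃ y ∈ D, Commute a y ∧ ¬ Commute x y := by
    by_contra hno
    push Not at hno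
    obtain ⟨g, hg⟩ := class_exists_conj hD ha.1 hx
    have hss : {y | y ∈ D ∧ Commute a y} ⊆ {y | y ∈ D ∧ Commute x y} :=
      fun y hy => ⟨hy.1, hno y hy.1 hy.2⟩
    have hle : {y | y ∈ D ∧ Commute x y}.ncard ≤ {y | y ∈ D ∧ Commute a y}.ncard := by
      rw [← Set.ncard_image_of_injective {y | y ∈ D ∧ Commute x y} (f := fun v => g⁻¹ * v * g⁻¹⁻¹)
        fun p q h => (MulAut.conj g⁻¹).injective h]
      refine Set.ncard_le_ncard ?_ (Set.toFinite _)
      rintro _ ⟨y, hy, rfl⟩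
      refine ⟨conj_mem hG hy.1, ?_⟩
      have := (commute_conj_iff g⁻¹ x y).2 hy.2
      rwa [show g⁻¹ * x * g⁻¹⁻¹ = a by rw [← hg]; group] at this
    have he := Set.eq_of_subset_of_ncard_le hss hle (Set.toFinite _)
    have hv : VRel D a x := ⟨ha.1, hx, fun e he' =>
      ⟨fun h => ((Set.ext_iff.1 he e).2 ⟨he', h⟩).2, fun h => ((Set.ext_iff.1 he e).1 ⟨he', h⟩).2⟩⟩
    have hm := ((vRel_iff hG ha.1).1 hv).2
    rw [h2, mem_bot] at hm
    exact ha.2.1 (by rw [eq_inv_of_mul_eq_one_left hm, inv_eq hD.1 hx])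
  have hyB : ∀ e ∈ Part D x b, Commute y e := by
    intro e he
    by_contra hc
    have hye : y ≠ a := fun h => hxy (h.symm ▸ ha.2.2)
    have h1 : Link D a e y := ⟨hinA e he, ⟨hy, hye, hay⟩, fun h => hc h.symm⟩
    have h2' : Link D a y x := ⟨⟨hy, hye, hay⟩, ⟨hx, ha.2.1.symm, ha.2.2.symm⟩,
      fun h => hxy h.symm⟩
    have hxB : x ∈ Part D a b := ((hsub he).tail h1).tail h2'
    rw [← heq] at hxB
    exact (Part.mem_perp hb hxB).2.1 rfl
  have hstab : ∀ d ∈ D, ∀ e ∈ Part D x b, (¬ Commute d e → d ∈ Part D x b) →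
      d * e * d⁻¹ ∈ Part D x b := by
    intro d hd e he hin
    by_cases hc : Commute d e
    · rwa [conj_eq_of_commute hc]
    · have hd' := Part.mem_perp hb (hin hc)
      have he' := Part.mem_perp hb he
      refine (hin hc).tail ⟨hd', ⟨conj_mem hG he'.1, fun h => he'.2.1 ?_, ?_⟩, fun h => hc ?_⟩
      · have hdx : d * x * d⁻¹ = x := conj_eq_of_commute hd'.2.2.symm
        exact (MulAut.conj d).injective (h.trans hdx.symm)
      · exact (hd'.2.2.mul_right he'.2.2).mul_right hd'.2.2.inv_right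
      · have h' : Commute (d * d * d⁻¹) (d * e * d⁻¹) := by
          rwa [conj_eq_of_commute (Commute.refl d)]
        exact (commute_conj_iff d d e).1 h'
  have houter : ∀ z ∈ D, ¬ Commute x z → ∀ e ∈ Part D x b, Commute z e := by
    intro z hz hxz
    obtain ⟨h, hh, rfl⟩ := trans_noncomm_closure hG hP hw hx hy hxy hz hxz
    have hpres : ∀ k ∈ closure {y : G | y ∈ D ∧ Commute x y},
        ∀ e ∈ Part D x b, k * e * k⁻¹ ∈ Part D x b ∧ k⁻¹ * e * k ∈ Part D x b := by
      intro k hk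
      induction hk using closure_induction with
      | mem k hk =>
        intro e he
        have h1 : k * e * k⁻¹ ∈ Part D x b := hstab k hk.1 e he fun hc => by
          by_contra hn'
          exact hc (Part.commute_out hb he ⟨hk.1, fun h => hc (h ▸ (Part.mem_perp hb he).2.2), hk.2⟩
            hn')
        refine ⟨h1, ?_⟩
        rwa [inv_eq hD.1 hk.1] at h1 ⊢
      | one => intro e he; simpa using he
      | mul p q _ _ hp hq =>
        intro e he
        refine ⟨?_, ?_⟩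
        · rw [show p * q * e * (p * q)⁻¹ = p * (q * e * q⁻¹) * p⁻¹ by group]
          exact (hp _ (hq e he).1).1
        · rw [show (p * q)⁻¹ * e * (p * q) = q⁻¹ * (p⁻¹ * e * p) * q by group]
          exact (hq _ (hp e he).2).2
      | inv p _ hp =>
        intro e he
        rw [inv_inv]
        exact ⟨(hp e he).2, (hp e he).1⟩
    intro e he
    have := (commute_conj_iff h y (h⁻¹ * e * h)).2 (hyB _ (hpres h hh e he).2)
    rwa [show h * (h⁻¹ * e * h) * h⁻¹ = e by group] at this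
  have hall : ∀ g : G, ∀ e ∈ Part D x b, g * e * g⁻¹ ∈ Part D x b := by
    intro g
    have hg : g ∈ closure D := hD.2.2 ▸ mem_top g
    induction hg using closure_induction'' with
    | mem d hd =>
      intro e he
      refine hstab d hd e he fun hc => ?_
      by_contra hn'
      by_cases hxd : Commute x d
      · exact hc (Part.commute_out hb he ⟨hd, fun h => hc (h ▸ (Part.mem_perp hb he).2.2), hxd⟩ hn')
      · exact hc (houter d hd hxd e he)
    | inv_mem d hd =>
      intro e he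
      rw [inv_eq hD.1 hd]
      refine hstab d hd e he fun hc => ?_
      by_contra hn'
      by_cases hxd : Commute x d
      · exact hc (Part.commute_out hb he ⟨hd, fun h => hc (h ▸ (Part.mem_perp hb he).2.2), hxd⟩ hn')
      · exact hc (houter d hd hxd e he)
    | one => intro e he; simpa using he
    | mul p q _ _ hp hq =>
      intro e he
      rw [show p * q * e * (p * q)⁻¹ = p * (q * e * q⁻¹) * p⁻¹ by group]
      exact hp _ (hq e he)
  obtain ⟨g, hg⟩ := class_exists_conj hD hb.1 hx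
  exact (Part.mem_perp hb (hg ▸ hall g b .refl)).2.1 rfl

/-- The members commuting with `x` form one class of the subgroup they generate. -/
theorem perp_class (hD : Cfsg.IsThreeTranspositionClass D)
    (hP : Cfsg.IsPrimitiveUnderConj D) (hw : ∃ a ∈ D, ∃ b ∈ D, a ≠ b ∧ Commute a b)
    (h2 : Cfsg.pCore 2 G = ⊥) {x : G} (hx : x ∈ D) {a b : G}
    (ha : a ∈ D ∧ a ≠ x ∧ Commute x a) (hb : b ∈ D ∧ b ≠ x ∧ Commute x b) :
    ∃ g ∈ closure {y : G | y ∈ D ∧ y ≠ x ∧ Commute x y}, g * a * g⁻¹ = b := by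
  have h : Relation.ReflTransGen (Link D x) a b := link_connected hD hP hw h2 hx ha hb
  clear hb
  induction h with
  | refl => exact ⟨1, one_mem _, by simp⟩
  | @tail p q _ hpq ih =>
    obtain ⟨g, hg, rfl⟩ := ih
    refine ⟨(g * a * g⁻¹) * q * g, mul_mem (mul_mem (subset_closure hpq.1)
      (subset_closure hpq.2.1)) hg, ?_⟩
    have h := braid hD.1 hpq.1.1 hpq.2.1.1 hpq.2.2
    generalize hp : g * a * g⁻¹ = p at h hpq
    rw [show p * q * g * a * (p * q * g)⁻¹ = p * q * (g * a * g⁻¹) * (q⁻¹ * p⁻¹) by group, hp, h,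
      inv_eq hD.1 hpq.1.1, inv_eq hD.1 hpq.2.1.1]
    have hqq := sq_one hD.1 hpq.2.1.1
    have hpp := sq_one hD.1 hpq.1.1
    calc q * p * q * (q * p) = q * p * (q * q) * p := by group
      _ = q * (p * p) := by rw [hqq]; group
      _ = q := by rw [hpp, mul_one]

end CfsgLib.Fischer
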